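import Cfsg.Agent.Components.PTerminal.Bar
import Cfsg.Agent.Components.PCompCentralizer
import Cfsg.Agent.Coprime.SolvableBasics
import Cfsg.Prelude.Def_ClassificationStages

/-!
`p`-components of subgroups, their centralizers modulo cores, and covers in fixed-point groups.
-/

set_option linter.style.haveILetI false
set_option linter.unusedSectionVars false

namespace Cfsg.Lib.Components.PTerminal

open Subgroup Cfsg.Lib.Components Cfsg.Lib.Components.BpBalance
open scoped commutatorElement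

universe u

variable {G : Type u} [Group G] [Finite G] {p : ℕ} [Fact p.Prime]
variable {A : Type u} [Group A] [Finite A]

/-- `C(x)` -/
abbrev cz (x : G) : Subgroup G := centralizer ({x} : Set G)

/-- `O_{p'}(H)` inside `G` -/
def Core (p : ℕ) (H : Subgroup G) : Subgroup G := (pPrimeCore p ↥H).map H.subtype

/-- the elements of `H` centralizing `J` modulo the core of `H` -/
abbrev Cent (p : ℕ) (H J : Subgroup G) : Subgroup G := (centralizerModCore p H J).map H.subtype

/-- the image of `J` in `H / O_{p'}(H)` -/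
abbrev bar (p : ℕ) (H J : Subgroup G) : Subgroup (↥H ⧸ pPrimeCore p ↥H) :=
  (J.subgroupOf H).map (QuotientGroup.mk' (pPrimeCore p ↥H))

/-- a `p`-component of `H` with the prescribed quotient `A` -/
def Copy (A : Type u) [Group A] (p : ℕ) (H J : Subgroup G) : Prop :=
  IsPComponentOf p J H ∧ Nonempty ((↥J ⧸ pPrimeCore p ↥J) ≃* A)

theorem core_le (H : Subgroup G) : Core p H ≤ H := map_subtype_le _

theorem mem_core {H : Subgroup G} {c : G} :
    c ∈ Core p H ↔ ∃ h : c ∈ H, (⟨c, h⟩ : ↥H) ∈ pPrimeCore p ↥H := by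
  constructor
  · rintro ⟨d, hd, rfl⟩; exact ⟨d.2, hd⟩
  · rintro ⟨h, hd⟩; exact ⟨_, hd, rfl⟩

theorem le_normalizer_core (H : Subgroup G) : H ≤ normalizer (Core p H : Set G) := by
  intro g hg
  rw [mem_normalizer_iff_map_conj_eq]
  refine Subgroup.eq_of_le_of_card_ge ?_
    (Nat.card_congr ((Core p H).equivMapOfInjective _ (MulAut.conj g).injective).toEquiv).le
  rintro _ ⟨c, hc, rfl⟩
  obtain ⟨d, hd, rfl⟩ := hc
  exact ⟨⟨g, hg⟩ * d * ⟨g, hg⟩⁻¹, (pPrimeCore_normal' p).conj_mem d hd _, rfl⟩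

theorem card_core (H : Subgroup G) : (Nat.card (Core p H)).Coprime p := by
  rw [Core, Nat.card_congr ((pPrimeCore p ↥H).equivMapOfInjective _ H.subtype_injective).toEquiv.symm]
  exact coprime_card_pPrimeCore p

theorem le_core {H P : Subgroup G} (hPH : P ≤ H) (hn : H ≤ normalizer (P : Set G))
    (hc : (Nat.card P).Coprime p) : P ≤ Core p H := by
  haveI := normal_subgroupOf_of_le_normalizer hn
  rw [← map_subgroupOf_eq_of_le hPH]
  refine Subgroup.map_mono (le_pPrimeCore ?_)
  rwa [card_subgroupOf_of_le hPH]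

theorem core_inf_le {H H' : Subgroup G} (hle : H' ≤ H) : Core p H ⊓ H' ≤ Core p H' := by
  refine le_core inf_le_right ?_ ((card_core H).coprime_dvd_left (card_dvd_of_le inf_le_left))
  intro g hg
  rw [mem_normalizer_iff]
  intro a
  rw [mem_inf, mem_inf, ← (mem_normalizer_iff.1 (le_normalizer_core H (hle hg)) a),
    ← (mem_normalizer_iff.1 (le_normalizer (H := H') hg) a)]

theorem bar_le_iff {H A B : Subgroup G} (hA : A ≤ H) (hB : B ≤ H) :
    bar p H A ≤ bar p H B ↔ A ≤ B ⊔ Core p H := by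
  rw [bar, map_le_iff_le_comap, comap_map_q]
  constructor
  · intro h
    have := Subgroup.map_mono (f := H.subtype) h
    rwa [Subgroup.map_sup, map_subgroupOf_eq_of_le hA, map_subgroupOf_eq_of_le hB] at this
  · intro h
    rw [← map_le_map_iff_of_injective H.subtype_injective, Subgroup.map_sup,
      map_subgroupOf_eq_of_le hA, map_subgroupOf_eq_of_le hB]
    exact h

theorem commutator_le_core_iff {H A B : Subgroup G} (hA : A ≤ H) (hB : B ≤ H) :
    ⁅A, B⁆ ≤ Core p H ↔ ⁅bar p H A, bar p H B⁆ = ⊥ := by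
  rw [← map_commutator, Subgroup.map_eq_bot_iff, QuotientGroup.ker_mk',
    ← map_le_map_iff_of_injective H.subtype_injective, map_commutator,
    map_subgroupOf_eq_of_le hA, map_subgroupOf_eq_of_le hB, Core]

theorem mem_cent {H J : Subgroup G} (hJ : J ≤ H) {c : G} :
    c ∈ Cent p H J ↔ c ∈ H ∧ ∀ j ∈ J, ⁅j, c⁆ ∈ Core p H := by
  constructor
  · rintro ⟨d, hd, rfl⟩
    refine ⟨d.2, fun j hj => mem_core.2 ⟨?_, ?_⟩⟩
    · exact mul_mem (mul_mem (mul_mem (hJ hj) d.2) (inv_mem (hJ hj))) (inv_mem d.2)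
    rw [← QuotientGroup.eq_one_iff]
    show QuotientGroup.mk' (pPrimeCore p ↥H) ⁅(⟨j, hJ hj⟩ : ↥H), d⁆ = 1
    rw [map_commutatorElement, commutatorElement_eq_one_iff_mul_comm]
    exact mem_centralizer_iff.1 (mem_comap.1 hd) _ (mem_map_of_mem _ (mem_subgroupOf.2 hj))
  · rintro ⟨hc, h⟩
    refine ⟨⟨c, hc⟩, mem_comap.2 (mem_centralizer_iff.2 ?_), rfl⟩
    rintro _ ⟨j, hj, rfl⟩
    obtain ⟨h1, h2⟩ := mem_core.1 (h j hj)
    rw [← commutatorElement_eq_one_iff_mul_comm, ← map_commutatorElement]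
    exact (QuotientGroup.eq_one_iff _).2 h2

theorem cent_le {H J : Subgroup G} : Cent p H J ≤ H := map_subtype_le _

theorem commutator_cent_le {H J : Subgroup G} (hJ : J ≤ H) : ⁅J, Cent p H J⁆ ≤ Core p H :=
  commutator_le.2 fun j hj _c hc => ((mem_cent hJ).1 hc).2 j hj

theorem le_cent_of_commutator {H J L : Subgroup G} (hJ : J ≤ H) (hL : L ≤ H)
    (h : ⁅J, L⁆ ≤ Core p H) : L ≤ Cent p H J := fun _l hl =>
  (mem_cent hJ).2 ⟨hL hl, fun _j hj => h (commutator_mem_commutator hj hl)⟩

theorem core_le_cent {H J : Subgroup G} (hJ : J ≤ H) : Core p H ≤ Cent p H J :=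
  le_cent_of_commutator hJ (core_le H) (commutator_le.2 fun j hj c hc => by
    have := (mem_normalizer_iff.1 (le_normalizer_core H (hJ hj)) c).1 hc
    simpa [commutatorElement_def] using mul_mem this (inv_mem hc))

theorem mem_normalizer_of_bar {H J : Subgroup G} (hJ : IsPComponentOf p J H) {c : G} (hc : c ∈ H)
    (h : QuotientGroup.mk' (pPrimeCore p ↥H) ⟨c, hc⟩ ∈ normalizer (bar p H J : Set _)) :
    c ∈ normalizer (J : Set G) := by
  have hn := pcomp_mem_normalizer hJ.2 (g := (⟨c, hc⟩ : ↥H)) h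
  rw [mem_normalizer_iff]
  intro a
  constructor
  · intro ha
    exact (mem_normalizer_iff.1 hn ⟨a, hJ.1 ha⟩).1 ha
  · intro ha
    have haH : a ∈ H := by
      have := mul_mem (mul_mem (inv_mem hc) (hJ.1 ha)) hc
      simpa [mul_assoc] using this
    exact (mem_normalizer_iff.1 hn ⟨a, haH⟩).2 ha

theorem cent_le_normalizer {H J : Subgroup G} (hJ : IsPComponentOf p J H) :
    Cent p H J ≤ normalizer (J : Set G) := by
  rintro _ ⟨d, hd, rfl⟩
  exact mem_normalizer_of_bar hJ d.2 (centralizer_le_normalizer _ (mem_comap.1 hd))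

theorem core_le_normalizer {H J : Subgroup G} (hJ : IsPComponentOf p J H) :
    Core p H ≤ normalizer (J : Set G) := (core_le_cent hJ.1).trans (cent_le_normalizer hJ)

theorem core_inf {H J : Subgroup G} (hJ : IsPComponentOf p J H) :
    J ⊓ Core p H = (pPrimeCore p ↥J).map J.subtype := by
  have h := pPrimeCore_map_subtype_eq (p := p) hJ.2.1
  have e : (pPrimeCore p ↥J).map J.subtype
      = ((pPrimeCore p ↥(J.subgroupOf H)).map (J.subgroupOf H).subtype).map H.subtype := by
    rw [← pPrimeCore_map_equiv (subgroupOfEquivOfLe hJ.1), map_map, map_map]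
    rfl
  rw [e, h, Subgroup.map_inf _ _ _ H.subtype_injective, map_subgroupOf_eq_of_le hJ.1, inf_comm]
  rfl

theorem quot_equiv {H J : Subgroup G} (hJ : IsPComponentOf p J H) :
    Nonempty ((↥J ⧸ pPrimeCore p ↥J) ≃* ↥(bar p H J)) := by
  obtain ⟨e⟩ := pcomp_quotient_equiv (p := p) hJ.2.1
  exact ⟨(QuotientGroup.congr (pPrimeCore p ↥J) (pPrimeCore p ↥(J.subgroupOf H))
    (subgroupOfEquivOfLe hJ.1).symm (pPrimeCore_map_equiv _)).trans e⟩

theorem pcompOf_conj {H J : Subgroup G} (hJ : IsPComponentOf p J H) (g : G) :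
    IsPComponentOf p (J.map (MulAut.conj g).toMonoidHom) (H.map (MulAut.conj g).toMonoidHom) :=
  (pcompOf_map_iff _ (MulAut.conj g).injective).2 hJ

theorem copy_conj {H J : Subgroup G} (hJ : Copy A p H J) (g : G) :
    Copy A p (H.map (MulAut.conj g).toMonoidHom) (J.map (MulAut.conj g).toMonoidHom) := by
  obtain ⟨h1, ⟨e⟩⟩ := hJ
  refine ⟨pcompOf_conj h1 g, ⟨(QuotientGroup.congr _ _ ((MulAut.conj g).subgroupMap J)
    (pPrimeCore_map_equiv _)).symm.trans e⟩⟩

theorem map_conj_of_mem {H : Subgroup G} {g : G} (hg : g ∈ normalizer (H : Set G)) :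
    H.map (MulAut.conj g).toMonoidHom = H := mem_normalizer_iff_map_conj_eq.1 hg

theorem conj_core {H : Subgroup G} (g : G) :
    (Core p H).map (MulAut.conj g).toMonoidHom = Core p (H.map (MulAut.conj g).toMonoidHom) := by
  have e := pPrimeCore_map_equiv (p := p) ((MulAut.conj g).subgroupMap H)
  refine Eq.trans ?_ (congrArg (Subgroup.map (H.map ((MulAut.conj g) : G →* G)).subtype) e)
  rw [Core, map_map, map_map]
  rfl

theorem cent_conj {H J : Subgroup G} (hJ : J ≤ H) {c : G} (hc : c ∈ Cent p H J) (g : G) :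
    g * c * g⁻¹ ∈ Cent p (H.map (MulAut.conj g).toMonoidHom) (J.map (MulAut.conj g).toMonoidHom) := by
  obtain ⟨hcH, h⟩ := (mem_cent hJ).1 hc
  refine (mem_cent (Subgroup.map_mono hJ)).2 ⟨mem_map_of_mem (MulAut.conj g).toMonoidHom hcH, ?_⟩
  rintro _ ⟨j, hj, rfl⟩
  rw [← conj_core]
  have := mem_map_of_mem (MulAut.conj g).toMonoidHom (h j hj)
  simpa [map_commutatorElement] using this

theorem pcompOf_le_cent {H J L : Subgroup G} (hJ : IsPComponentOf p J H) (hL : IsPComponentOf p L H)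
    (hne : J ≠ L) : L ≤ Cent p H J := by
  refine le_cent_of_commutator hJ.1 hL.1 ((commutator_le_core_iff hJ.1 hL.1).2 ?_)
  refine comp_commute hJ.2.2.1 hL.2.2.1 fun e => hne ?_
  have := congrArg (Subgroup.map H.subtype) (pcomp_eq_of_image_eq hJ.2 hL.2 e)
  rwa [map_subgroupOf_eq_of_le hJ.1, map_subgroupOf_eq_of_le hL.1] at this

theorem pcompOf_le_normalizer {H J L : Subgroup G} (hJ : IsPComponentOf p J H)
    (hL : IsPComponentOf p L H) : L ≤ normalizer (J : Set G) := by
  by_cases e : J = L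
  · exact e ▸ le_normalizer
  · exact (pcompOf_le_cent hJ hL e).trans (cent_le_normalizer hJ)

/-- a perfect subgroup of `J` centralizing `J` modulo the core lies in the core -/
theorem le_core_of_cent {H J N : Subgroup G} (hJ : J ≤ H) (hN : ⁅N, N⁆ = N) (h1 : N ≤ J)
    (h2 : N ≤ Cent p H J) : N ≤ Core p H :=
  hN.ge.trans ((commutator_mono h1 h2).trans (commutator_cent_le hJ))

theorem copy_dvd (hA : p ∣ Nat.card A) {H J : Subgroup G} (hJ : Copy A p H J) : p ∣ Nat.card J := by
  obtain ⟨e⟩ := hJ.2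
  exact hA.trans (Nat.card_congr e.toEquiv ▸ card_quotient_dvd_card _)

theorem not_le_core (hA : p ∣ Nat.card A) {H H' J : Subgroup G} (hJ : Copy A p H' J) :
    ¬ J ≤ Core p H := fun h =>
  (Fact.out : p.Prime).coprime_iff_not_dvd.1 ((card_core H).coprime_dvd_left (card_dvd_of_le h)).symm
    (copy_dvd hA hJ)

/-- two `p`-components containing a common non-core perfect subgroup are equal -/
theorem pcompOf_unique {H J L N : Subgroup G} (hJ : IsPComponentOf p J H)
    (hL : IsPComponentOf p L H) (hN : ⁅N, N⁆ = N) (hne : ¬ N ≤ Core p H) (h1 : N ≤ J) (h2 : N ≤ L) :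
    J = L :=
  by_contra fun e => hne (le_core_of_cent hJ.1 hN h1 (h2.trans (pcompOf_le_cent hJ hL e)))

theorem relIndex_dvd_of_normalizes {M W k : Subgroup G} (hMW : M ≤ W) (hkW : k ≤ W)
    (hn : W ≤ normalizer (M : Set G)) : M.relIndex k ∣ M.relIndex W := by
  rw [← Cfsg.Lib.Misc.ControlExtension.relIndex_sup_of_le_normalizer (hkW.trans hn)]
  exact Dvd.intro _ (relIndex_mul_relIndex M (M ⊔ k) W le_sup_left (sup_le hMW hkW))

/-- a `p`-component inside `W` lies in every normal subgroup of `W` of index prime to `p` -/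
theorem le_of_normal_coprime {H' k M W : Subgroup G} (hk : IsPComponentOf p k H') (hkW : k ≤ W)
    (hMW : M ≤ W) (hn : W ≤ normalizer (M : Set G)) (hc : (M.relIndex W).Coprime p) : k ≤ M := by
  haveI : (M.subgroupOf k).Normal := normal_subgroupOf_of_le_normalizer (hkW.trans hn)
  have hd : (M.subgroupOf k).index.Coprime p :=
    hc.coprime_dvd_left (relIndex_dvd_of_normalizes hMW hkW hn)
  set e := subgroupOfEquivOfLe hk.1
  haveI : ((M.subgroupOf k).comap e.toMonoidHom).Normal := Normal.comap inferInstance _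
  have ht := pcomp_eq_top_of_coprime_index hk.2 ((M.subgroupOf k).comap e.toMonoidHom)
    (by rw [index_comap_of_surjective _ e.surjective]; exact hd)
  intro a ha
  have := ht ▸ mem_top (⟨⟨a, hk.1 ha⟩, ha⟩ : ↥(k.subgroupOf H'))
  exact this

/-- a `p`-element of `W` lies in every normal subgroup of index prime to `p` -/
theorem pelem_mem {M W : Subgroup G} {v : G} (hv : IsPGroup p (zpowers v)) (hvW : v ∈ W)
    (hMW : M ≤ W) (hn : W ≤ normalizer (M : Set G)) (hc : (M.relIndex W).Coprime p) : v ∈ M := by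
  have hd := relIndex_dvd_of_normalizes hMW (zpowers_le.2 hvW) hn
  obtain ⟨n, hcard⟩ := IsPGroup.iff_card.1 hv
  have h2 : M.relIndex (zpowers v) ∣ p ^ n := hcard ▸ relIndex_dvd_card M (zpowers v)
  have h1 : M.relIndex (zpowers v) = 1 := Nat.eq_one_of_dvd_coprimes
    (Nat.Coprime.pow_right n (hc.coprime_dvd_left hd)) dvd_rfl h2
  exact relIndex_eq_one.1 h1 (mem_zpowers v)

theorem isPGroup_zpowers {a : G} (ha : orderOf a = p) : IsPGroup p (zpowers a) :=
  IsPGroup.of_card (n := 1) (by rw [Nat.card_zpowers, ha, pow_one])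

theorem relIndex_sup_core {H J : Subgroup G} (hJ : IsPComponentOf p J H) :
    (J.relIndex (J ⊔ Core p H)).Coprime p := by
  rw [Cfsg.Lib.Misc.ControlExtension.relIndex_sup_of_le_normalizer (core_le_normalizer hJ)]
  exact (card_core H).coprime_dvd_left (relIndex_dvd_card _ _)

theorem sup_core_le_normalizer {H J : Subgroup G} (hJ : IsPComponentOf p J H) :
    J ⊔ Core p H ≤ normalizer (J : Set G) := sup_le le_normalizer (core_le_normalizer hJ)

theorem le_of_le_sup_core {H H' J k : Subgroup G} (hJ : IsPComponentOf p J H)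
    (hk : IsPComponentOf p k H') (h : k ≤ J ⊔ Core p H) : k ≤ J :=
  le_of_normal_coprime hk h le_sup_left (sup_core_le_normalizer hJ) (relIndex_sup_core hJ)

/-- fixed points of a `p`-group centralizing a `p`-component modulo the core cover it -/
theorem cover {H J R : Subgroup G} (hJ : IsPComponentOf p J H) (hR : IsPGroup p R)
    (hRc : R ≤ Cent p H J) : J ≤ (J ⊓ centralizer (R : Set G)) ⊔ (J ⊓ Core p H) := by
  haveI : Group.IsNilpotent R := hR.isNilpotent
  have hRH : R ≤ H := hRc.trans cent_le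
  have hn : R ≤ normalizer ((J ⊓ Core p H : Subgroup G) : Set G) := fun r hr =>
    mem_normalizer_iff.2 fun a => by
      rw [mem_inf, mem_inf, ← mem_normalizer_iff.1 (cent_le_normalizer hJ (hRc hr)) a,
        ← mem_normalizer_iff.1 (le_normalizer_core H (hRH hr)) a]
  obtain ⟨n, hcard⟩ := IsPGroup.iff_card.1 hR
  have hcop : (Nat.card R).Coprime (Nat.card ↥(J ⊓ Core p H)) := by
    rw [hcard]
    exact ((card_core H).coprime_dvd_left (card_dvd_of_le inf_le_right)).symm.pow_left n
  refine (Cfsg.Lib.Coprime.le_centralizer_sup hn hcop (Or.inl inferInstance) inf_le_left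
    fun k hk a ha => mem_inf.2 ⟨?_, ?_⟩).ge
  · have h := (mem_normalizer_iff.1 (cent_le_normalizer hJ (hRc ha)) k).1 hk
    simpa [mul_assoc] using mul_mem (inv_mem hk) h
  · have h := ((mem_cent hJ.1).1 (hRc ha)).2 k⁻¹ (inv_mem hk)
    simpa [commutatorElement_def] using h

/-- the `p`-component of the fixed points covering a copy -/
theorem cover_elem {H J : Subgroup G} (hJ : Copy A p H J) {a : G} (ha : orderOf a = p)
    (haC : a ∈ Cent p H J) :
    Copy A p (H ⊓ cz a) (pLayerOf p (J ⊓ cz a)) ∧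
      J ≤ pLayerOf p (J ⊓ cz a) ⊔ Core p H ∧ pLayerOf p (J ⊓ cz a) ≤ J ⊓ cz a ∧
      J ⊓ cz a ≤ normalizer (pLayerOf p (J ⊓ cz a) : Set G) ∧
      ((pLayerOf p (J ⊓ cz a)).relIndex (J ⊓ cz a)).Coprime p := by
  obtain ⟨hJ1, ⟨eA⟩⟩ := hJ
  have hcov := cover hJ1 (isPGroup_zpowers ha) (zpowers_le.2 haC)
  set C := J ⊓ cz a with hC
  rw [show J ⊓ centralizer (zpowers a : Set G) = C by rw [hC, cz, zpowers_eq_closure, centralizer_closure]]
    at hcov
  set D := J ⊓ Core p H with hD
  have hCD : C ≤ normalizer (D : Set G) := fun r hr =>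
    mem_normalizer_iff.2 fun b => by
      rw [hD, mem_inf, mem_inf, ← mem_normalizer_iff.1 (le_normalizer (mem_inf.1 hr).1) b,
        ← mem_normalizer_iff.1 (le_normalizer_core H (hJ1.1 (mem_inf.1 hr).1)) b]
  let f : ↥C →* ↥J ⧸ pPrimeCore p ↥J :=
    (QuotientGroup.mk' (pPrimeCore p ↥J)).comp (inclusion inf_le_left)
  have hf : Function.Surjective f := by
    intro z
    obtain ⟨k, rfl⟩ := QuotientGroup.mk'_surjective _ z
    obtain ⟨c, hc, d, hd, hcd⟩ : ∃ c ∈ C, ∃ d ∈ D, c * d = (k : G) := by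
      have hk : (k : G) ∈ C ⊔ D := hcov k.2
      rw [sup_comm] at hk
      exact (Cfsg.Lib.Coprime.mem_sup_of_le_normalizer' hCD).mp hk
    rw [hD, core_inf hJ1] at hd
    obtain ⟨d', hd', rfl⟩ := hd
    refine ⟨⟨c, hc⟩, ?_⟩
    show (QuotientGroup.mk' (pPrimeCore p ↥J)) (inclusion inf_le_left ⟨c, hc⟩) = _
    rw [QuotientGroup.mk'_apply, QuotientGroup.mk'_apply, QuotientGroup.eq]
    have he : (inclusion (inf_le_left : C ≤ J) ⟨c, hc⟩)⁻¹ * k = d' := by
      apply Subtype.ext
      show c⁻¹ * (k : G) = (d' : G)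
      rw [← hcd]
      show c⁻¹ * (c * (d' : G)) = d'
      group
    rw [he]
    exact hd'
  have hker : (Nat.card f.ker).Coprime p := by
    refine (coprime_card_pPrimeCore (G := ↥J) p).coprime_dvd_left ?_
    rw [Nat.card_congr (Subgroup.equivMapOfInjective f.ker (inclusion (inf_le_left : C ≤ J))
      (inclusion_injective _)).toEquiv]
    refine Subgroup.card_dvd_of_le ?_
    rintro _ ⟨x, hx, rfl⟩
    exact (QuotientGroup.eq_one_iff _).mp (MonoidHom.mem_ker.mp hx)
  obtain ⟨e, -⟩ := exists_quotient_equiv_of_coprime_ker hf hker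
  have hbot : pPrimeCore p (↥J ⧸ pPrimeCore p ↥J) = ⊥ := pPrimeCore_quotient_eq_bot
  let e' : (↥C ⧸ pPrimeCore p ↥C) ≃* (↥J ⧸ pPrimeCore p ↥J) :=
    e.trans ((QuotientGroup.quotientMulEquivOfEq hbot).trans QuotientGroup.quotientBot)
  obtain ⟨eJ⟩ := quot_equiv hJ1
  have hqs : IsQuasisimple (↥C ⧸ pPrimeCore p ↥C) :=
    qs_congr' (e'.trans eJ).symm hJ1.2.2.1.2
  have htopc : IsComponent (⊤ : Subgroup (↥C ⧸ pPrimeCore p ↥C)) :=
    ⟨IsSubnormal.top, qs_congr' topEquiv.symm hqs⟩
  obtain ⟨k0, hk0, hk0q⟩ := exists_pcomp htopc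
  have hlayer : pLayer p ↥C = k0 := le_antisymm (sSup_le fun k' hk' =>
    (pcomp_eq_of_image_eq hk' hk0 ((comp_eq_of_le hk'.2.1 htopc le_top).trans hk0q.symm)).le)
    (le_sSup hk0)
  have hk0sup : k0 ⊔ pPrimeCore p ↥C = ⊤ := by rw [← comap_map_q, hk0q, comap_top]
  have hk : pLayerOf p C = k0.map C.subtype := by rw [pLayerOf, hlayer]
  rw [hk]
  have hCsn : (C.subgroupOf (H ⊓ cz a)).IsSubnormal := by
    have h := hJ1.2.1.comap (inclusion (inf_le_left : H ⊓ cz a ≤ H))
    convert h using 1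
    ext b
    simp only [mem_subgroupOf, mem_comap, hC, mem_inf, coe_inclusion]
    exact ⟨fun h => h.1, fun h => ⟨h, (mem_inf.1 b.2).2⟩⟩
  have hkC : IsPComponentOf p (k0.map C.subtype) C := by
    refine ⟨map_subtype_le _, ?_⟩
    rwa [show (k0.map C.subtype).subgroupOf C = k0 from comap_map_eq_self_of_injective C.subtype_injective k0]
  have hkH : IsPComponentOf p (k0.map C.subtype) (H ⊓ cz a) :=
    (pcompOf_trans (inf_le_inf_right _ hJ1.1) hCsn (map_subtype_le _)).1 hkC
  refine ⟨⟨hkH, ?_⟩, ?_, map_subtype_le _, ?_, ?_⟩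
  · obtain ⟨ek⟩ := pcomp_quotient_equiv (p := p) hk0.1
    obtain ⟨e0⟩ : Nonempty (↥k0 ≃* ↥(k0.map C.subtype)) :=
      ⟨k0.equivMapOfInjective _ C.subtype_injective⟩
    refine ⟨((QuotientGroup.congr _ _ e0 (pPrimeCore_map_equiv _)).symm.trans ek).trans ?_⟩
    exact (((MulEquiv.subgroupCongr hk0q).trans topEquiv).trans e').trans eA
  · refine hcov.trans (sup_le ?_ (le_sup_of_le_right inf_le_right))
    rintro c hc
    have hc' : (⟨c, hc⟩ : ↥C) ∈ k0 ⊔ pPrimeCore p ↥C := hk0sup ▸ mem_top _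
    rw [sup_comm] at hc'
    haveI := pPrimeCore_normal' (G := ↥C) p
    obtain ⟨u, hu, w, hw, huw⟩ := (Cfsg.Lib.Coprime.mem_sup_of_le_normalizer'
      (le_top.trans (normalizer_eq_top (pPrimeCore p ↥C)).ge)).mp hc'
    have hu' : ((u : ↥C) : G) ∈ k0.map C.subtype := mem_map_of_mem _ hu
    have hw' : ((w : ↥C) : G) ∈ Core p H := by
      have hwk := MonoidHom.mem_ker.1 (show w ∈ f.ker by
        rw [MonoidHom.mem_ker]
        have := mem_map_of_mem f hw
        rw [map_pPrimeCore_of_coprime_ker hf hker, hbot, mem_bot] at this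
        exact this)
      have h2 := (QuotientGroup.eq_one_iff _).mp hwk
      exact (mem_inf.1 ((core_inf hJ1).ge (mem_map_of_mem J.subtype h2))).2
    have := mul_mem (mem_sup_left hu' : _ ∈ k0.map C.subtype ⊔ Core p H) (mem_sup_right hw')
    rwa [← Subgroup.coe_mul, huw] at this
  · haveI : k0.Normal := hlayer ▸ inferInstance
    have hn : ((k0.map C.subtype).subgroupOf C).Normal := by
      rwa [show (k0.map C.subtype).subgroupOf C = k0 from comap_map_eq_self_of_injective C.subtype_injective k0]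
    exact (normal_subgroupOf_iff_le_normalizer (map_subtype_le _)).1 hn
  · haveI : k0.Normal := hlayer ▸ inferInstance
    rw [relIndex, show (k0.map C.subtype).subgroupOf C = k0 from
      comap_map_eq_self_of_injective C.subtype_injective k0]
    refine (coprime_card_pPrimeCore (G := ↥C) p).coprime_dvd_left ?_
    rw [← relIndex_top_right, ← hk0sup, sup_comm, relIndex_sup_right]
    exact relIndex_dvd_card _ _

/-- image of a `p`-component under a surjection with `p'`-kernel -/
theorem pcomp_map_coprime_ker {G' : Type u} [Group G'] [Finite G'] {f : G →* G'}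
    (hf : Function.Surjective f) (hker : (Nat.card f.ker).Coprime p) {K : Subgroup G}
    (hK : IsPComponent p K) : IsPComponent p (K.map f) := by
  obtain ⟨e, he⟩ := exists_quotient_equiv_of_coprime_ker hf hker
  have him : (K.map f).map (QuotientGroup.mk' (pPrimeCore p G'))
      = (K.map (QuotientGroup.mk' (pPrimeCore p G))).map e.toMonoidHom := by
    rw [map_map, map_map, he]
  refine ⟨hK.1.map hf, him ▸ comp_map_equiv hK.2.1 e, fun H' hH' hle himg => ?_⟩
  set S := K ⊓ H'.comap f with hS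
  have hSmap : S.map f = H' := by
    refine le_antisymm (by rintro _ ⟨a, ha, rfl⟩; exact (mem_inf.1 ha).2) fun b hb => ?_
    obtain ⟨a, ha, rfl⟩ := hle hb
    exact mem_map_of_mem f (mem_inf.2 ⟨ha, hb⟩)
  have hSsn : S.IsSubnormal := hK.1.inf (hH'.comap f)
  have := hK.2.2 S hSsn inf_le_left (by
    apply Subgroup.map_injective (f := e.toMonoidHom) e.injective
    rw [← him, map_map, he, ← map_map, hSmap, himg])
  rw [← hSmap, this]

end Cfsg.Lib.Components.PTerminal
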