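import Cfsg.Agent.Components.Misc.BpBalance
import Cfsg.Agent.Components.Misc.ControlExtension
import Cfsg.Agent.Coprime.Sylow

/-!
Diagonal and fixed components: a component-sized subgroup of the layer centralized by an
element of order `p`, in a group with trivial `p'`-core.
-/

set_option linter.style.haveILetI false
set_option linter.unusedSectionVars false

namespace Cfsg.Lib.Components.PTerminal

open Subgroup Cfsg.Lib.Components Cfsg.Lib.Components.BpBalance
open scoped commutatorElement

universe u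

variable {X : Type u} [Group X] [Finite X] {p : ℕ} [Fact p.Prime]

/-- a `p`-component of `C(x)` inside the layer lies in the product of one orbit of components -/
theorem orbit_or {x : X} {k : Subgroup X} (hk : IsPComponentOf p k (centralizer ({x} : Set X)))
    (hkL : k ≤ layer X) : ∃ J, IsComponent J ∧ k ≤ sSup (orbit' J x) := by
  classical
  set Y := centralizer ({x} : Set X) with hY
  have hkne := pcompOf_ne_bot hk
  have hsn : ∀ A : Subgroup X, A.IsSubnormal → ((A ⊓ Y).subgroupOf Y).IsSubnormal := fun A hA => by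
    rw [inf_subgroupOf_right]; exact hA.subgroupOf
  have two : ∀ A B : Subgroup X, ⁅A, B⁆ = ⊥ → A.IsSubnormal → B.IsSubnormal →
      (∀ a ∈ A, x * a * x⁻¹ ∈ A) → (∀ b ∈ B, x * b * x⁻¹ ∈ B) → k ≤ A ⊔ B → k ≤ A ∨ k ≤ B := by
    intro A B hAB hA hB hxA hxB hle
    have h := split_fixed hAB hxA hxB hle (pcompOf_perfect hk) hk.1
    exact (pcompOf_le_left_or_right hk inf_le_right inf_le_right (hsn A hA) (hsn B hB) h).imp
      (fun h => h.trans inf_le_left) (fun h => h.trans inf_le_left)
  have key : ∀ n, ∀ S : Set (Subgroup X), (∀ L ∈ S, IsComponent L) → S.ncard ≤ n →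
      (∀ L ∈ S, L.map (MulAut.conj x).toMonoidHom ∈ S ∧ L.map (MulAut.conj x⁻¹).toMonoidHom ∈ S) →
      k ≤ sSup S → ∃ J, IsComponent J ∧ k ≤ sSup (orbit' J x) := by
    intro n
    induction n with
    | zero =>
      intro S _ hc _ hle
      have : S = ∅ := (Set.ncard_eq_zero (Set.toFinite _)).1 (Nat.le_zero.1 hc)
      rw [this, sSup_empty, le_bot_iff] at hle
      exact absurd hle hkne
    | succ n ih =>
      intro S hSQ hc hst hle
      rcases S.eq_empty_or_nonempty with h | ⟨J, hJ⟩
      · rw [h, sSup_empty, le_bot_iff] at hle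
        exact absurd hle hkne
      have horb : orbit' J x ⊆ S := by
        rintro L ⟨i, rfl⟩
        induction i using Int.induction_on with
        | zero => rw [zpow_zero, conj_one_map]; exact hJ
        | succ i hi =>
          have := (hst _ hi).1
          rwa [conj_conj_map, ← zpow_one_add, add_comm] at this
        | pred i hi =>
          have := (hst _ hi).2
          rwa [conj_conj_map, ← zpow_neg_one, ← zpow_add, add_comm, ← sub_eq_add_neg] at this
      set rest := S \ orbit' J x with hrest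
      have horbst : ∀ L ∈ orbit' J x, L.map (MulAut.conj x).toMonoidHom ∈ orbit' J x := by
        rintro L ⟨i, rfl⟩
        exact ⟨1 + i, by rw [conj_conj_map, zpow_one_add]⟩
      have horbst' : ∀ L ∈ orbit' J x, L.map (MulAut.conj x⁻¹).toMonoidHom ∈ orbit' J x := by
        rintro L ⟨i, rfl⟩
        exact ⟨-1 + i, by rw [conj_conj_map, zpow_add, zpow_neg_one]⟩
      have hrst : ∀ L ∈ rest, L.map (MulAut.conj x).toMonoidHom ∈ rest ∧
          L.map (MulAut.conj x⁻¹).toMonoidHom ∈ rest := by
        intro L hL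
        refine ⟨⟨(hst L hL.1).1, fun h => hL.2 ?_⟩, ⟨(hst L hL.1).2, fun h => hL.2 ?_⟩⟩
        · have := horbst' _ h
          rwa [conj_conj_map, inv_mul_cancel, conj_one_map] at this
        · have := horbst _ h
          rwa [conj_conj_map, mul_inv_cancel, conj_one_map] at this
      have hle' : k ≤ sSup (orbit' J x) ⊔ sSup rest := by
        refine hle.trans (sSup_le fun L hL => ?_)
        by_cases h : L ∈ orbit' J x
        · exact le_sup_of_le_left (le_sSup h)
        · exact le_sup_of_le_right (le_sSup ⟨hL, h⟩)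
      have hoc : ∀ L ∈ orbit' J x, IsComponent L := fun L hL => hSQ L (horb hL)
      have hrc : ∀ L ∈ rest, IsComponent L := fun L hL => hSQ L hL.1
      rcases two _ _ (sSup_commute hoc hrc fun L hL hL' => hL'.2 hL) (sSup_isSubnormal hoc)
          (sSup_isSubnormal hrc) (fun a ha => conj_mem_sSup (S := orbit' J x) (x := x) horbst ha)
          (fun a ha => conj_mem_sSup (S := rest) (x := x) (fun L hL => (hrst L hL).1) ha) hle' with h | h
      · exact ⟨J, hSQ J hJ, h⟩
      · refine ih rest hrc ?_ hrst h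
        have hlt : rest.ncard < S.ncard := Set.ncard_lt_ncard
          ⟨Set.sdiff_subset, fun h => (h hJ).2 (orbit'_self J x)⟩ (Set.toFinite _)
        omega
  exact key _ {L | IsComponent L} (fun L hL => hL) le_rfl
    (fun L hL => ⟨comp_conj hL _, comp_conj hL _⟩) hkL

theorem orbit_fixed {J : Subgroup X} {x : X} (hx : x ∈ normalizer (J : Set X)) :
    sSup (orbit' J x) ≤ J :=
  sSup_le fun L ⟨i, hi⟩ => hi ▸ (mem_normalizer_iff_map_conj_eq.1 (zpow_mem hx i)).le

/-- a perfect fixed subgroup of an orbit product is in the diagonal -/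
theorem le_delta_range {J : Subgroup X} {x : X} {k : Subgroup X} {δ : ↥J →* X}
    (hδ : ∀ j, δ j ∈ sSup (orbit' J x) ⊓ centralizer ({x} : Set X))
    (hdec : ∀ c ∈ sSup (orbit' J x) ⊓ centralizer ({x} : Set X),
        ∃ j, (δ j)⁻¹ * c ∈ centralizer ((sSup (orbit' J x) : Subgroup X) : Set X))
    (hkJ : k ≤ sSup (orbit' J x)) (hkx : k ≤ centralizer ({x} : Set X)) (hperf : ⁅k, k⁆ = k) :
    k ≤ δ.range := by
  refine le_trans hperf.ge ?_
  rw [commutator_le]
  intro a ha b hb
  obtain ⟨j, hj⟩ := hdec a (mem_inf.2 ⟨hkJ ha, hkx ha⟩)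
  obtain ⟨j', hj'⟩ := hdec b (mem_inf.2 ⟨hkJ hb, hkx hb⟩)
  have hcz : ∀ z ∈ centralizer ((sSup (orbit' J x) : Subgroup X) : Set X),
      ∀ e ∈ sSup (orbit' J x), Commute e z := fun z hz e he => mem_centralizer_iff.1 hz e he
  have hz'O : (δ j')⁻¹ * b ∈ sSup (orbit' J x) :=
    mul_mem (inv_mem (mem_inf.1 (hδ j')).1) (hkJ hb)
  have h := commutator_mul_mul (hcz _ hj' _ (mem_inf.1 (hδ j)).1)
    (hcz _ hj _ (mem_inf.1 (hδ j')).1) (hcz _ hj _ (mem_inf.1 (hδ j)).1)
    (hcz _ hj' _ (mem_inf.1 (hδ j')).1)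
  rw [commutatorElement_eq_one_iff_mul_comm.2 (hcz _ hj _ hz'O).symm.eq, mul_one,
    mul_inv_cancel_left, mul_inv_cancel_left, ← map_commutatorElement] at h
  exact ⟨⁅j, j'⁆, h.symm⟩

/-- the elements conjugated trivially on `J/Z(J)` centralize `J` -/
theorem centralizes_of_mod_center {J : Subgroup X} (hJ : IsComponent J) {q : X}
    (h : ∀ j ∈ J, ⁅j, q⁆ ∈ J ⊓ centralizer (J : Set X)) : q ∈ centralizer (J : Set X) := by
  have hle : J ≤ centralizer ({q} : Set X) := by
    refine le_trans (comp_perfect hJ).ge ?_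
    rw [commutator_le]
    intro a ha b hb
    rw [mem_centralizer_singleton_iff]
    have hc : ∀ z ∈ J ⊓ centralizer (J : Set X), ∀ j ∈ J, Commute j z := fun z hz j hj =>
      mem_centralizer_iff.1 (mem_inf.1 hz).2 j hj
    -- `q j q⁻¹ = j * z_j` with `z_j` central in `J`
    have key : ∀ j ∈ J, ∃ z ∈ J ⊓ centralizer (J : Set X), q * j * q⁻¹ = j * z := by
      intro j hj
      refine ⟨⁅j, q⁆⁻¹, inv_mem (h j hj), ?_⟩
      have hcm := (hc _ (inv_mem (h j hj)) j hj).eq
      rw [hcm, commutatorElement_def]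
      group
    obtain ⟨za, hza, ea⟩ := key a ha
    obtain ⟨zb, hzb, eb⟩ := key b hb
    have e : q * ⁅a, b⁆ * q⁻¹ = ⁅a, b⁆ := by
      have e0 : q * ⁅a, b⁆ * q⁻¹ = ⁅q * a * q⁻¹, q * b * q⁻¹⁆ := by
        simp only [commutatorElement_def]; group
      rw [e0, ea, eb, commutator_mul_mul (hc _ hzb a ha) (hc _ hza b hb) (hc _ hza a ha) (hc _ hzb b hb),
        commutatorElement_eq_one_iff_mul_comm.2 (hc _ hzb za (mem_inf.1 hza).1).eq, mul_one]
    exact (mul_inv_eq_iff_eq_mul.1 e).symm
  exact mem_centralizer_iff.2 fun j hj => mem_centralizer_singleton_iff.1 (hle hj)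

/-- a fixed subgroup of orbit-product isomorphic in size to `J` projects onto `J` -/
theorem proj {J : Subgroup X} (hJ : IsComponent J) {x : X} {k : Subgroup X}
    (hkO : k ≤ sSup (orbit' J x)) (hkx : k ≤ centralizer ({x} : Set X))
    (hq : IsQuasisimple ↥k) (hind : (center ↥J).index ≤ (center ↥k).index) :
    J ≤ k ⊔ centralizer (J : Set X) := by
  set C := centralizer (J : Set X) with hC
  have hOJ : sSup (orbit' J x) ≤ J ⊔ C := sSup_le fun L hL => by
    by_cases e : L = J
    · exact e ▸ le_sup_left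
    · obtain ⟨i, hi⟩ := hL
      refine le_sup_of_le_right ?_
      rw [hC, ← commutator_eq_bot_iff_le_centralizer]
      exact comp_commute (hi ▸ comp_conj hJ _) hJ e
  have hJC : J ≤ normalizer (C : Set X) := le_normalizer.trans (normalizer_le_normalizer_centralizer' J)
  have hkC : k ≤ normalizer (C : Set X) :=
    (hkO.trans hOJ).trans (sup_le hJC le_normalizer)
  have hnle : ¬ k ≤ C := by
    intro h
    have hall : sSup (orbit' J x) ≤ centralizer (k : Set X) := by
      refine sSup_le ?_
      rintro L ⟨i, rfl⟩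
      rw [← commutator_eq_bot_iff_le_centralizer]
      have h0 : ⁅J, k⁆ = ⊥ := by
        rw [commutator_comm, commutator_eq_bot_iff_le_centralizer]; exact h
      have hk : k.map (MulAut.conj (x ^ i)).toMonoidHom = k := by
        refine mem_normalizer_iff_map_conj_eq.1 (centralizer_le_normalizer _ ?_)
        rw [mem_centralizer_iff]
        intro a ha
        exact ((Commute.zpow_right (mem_centralizer_singleton_iff.1 (hkx ha)) i)).eq
      rw [← hk, ← map_commutator, h0, Subgroup.map_bot]
    refine qs_not_isMulCommutative hq ⟨⟨fun a b => Subtype.ext ?_⟩⟩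
    exact (mem_centralizer_iff.1 (hall (hkO b.2)) a a.2)
  -- `k ∩ C` is central in `k`
  have hsn : ((C.subgroupOf k)).IsSubnormal := (normal_subgroupOf_of_le_normalizer hkC).isSubnormal
  have hcen : C.subgroupOf k ≤ center ↥k := by
    rcases qs_subnormal_eq_top_or_le_center hq hsn with h | h
    · exact absurd (subgroupOf_eq_top.1 h) hnle
    · exact h
  have h1 : (center ↥k).index ≤ C.relIndex k :=
    Nat.le_of_dvd (Nat.pos_of_ne_zero (by
      exact (C.subgroupOf k).index_ne_zero_of_finite)) (index_dvd_of_le hcen)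
  have h2 : C.relIndex J = (center ↥J).index := by
    rw [relIndex]
    congr 1
    ext a
    rw [mem_subgroupOf, mem_center_iff, hC, mem_centralizer_iff]
    exact ⟨fun h b => Subtype.ext (h b b.2), fun h b hb => congrArg Subtype.val (h ⟨b, hb⟩)⟩
  have h3 : C.relIndex (C ⊔ k) = C.relIndex k :=
    Cfsg.Lib.Misc.ControlExtension.relIndex_sup_of_le_normalizer hkC
  have h4 : C.relIndex (C ⊔ J) = C.relIndex J :=
    Cfsg.Lib.Misc.ControlExtension.relIndex_sup_of_le_normalizer hJC
  have hle : C ⊔ k ≤ C ⊔ J := sup_le le_sup_left ((hkO.trans hOJ).trans (sup_le le_sup_right le_sup_left))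
  have h5 := relIndex_mul_relIndex C (C ⊔ k) (C ⊔ J) le_sup_left hle
  have h6 : (C ⊔ k).relIndex (C ⊔ J) = 1 := by
    have hpos : 0 < C.relIndex k := Nat.pos_of_ne_zero (C.subgroupOf k).index_ne_zero_of_finite
    rw [h3, h4, h2] at h5
    by_contra hne
    have hne0 : (C ⊔ k).relIndex (C ⊔ J) ≠ 0 := ((C ⊔ k).subgroupOf _).index_ne_zero_of_finite
    have h7 := Nat.mul_le_mul_left (C.relIndex k) (show 2 ≤ (C ⊔ k).relIndex (C ⊔ J) by omega)
    omega
  exact le_sup_right.trans ((relIndex_eq_one.1 h6).trans (sup_comm C k).le)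

/-- the diagonal of a moved component is a component of the fixed point group -/
theorem delta_component {J : Subgroup X} (hJ : IsComponent J) (hZ : center ↥J = ⊥) {x : X}
    (hxJ : x ∉ normalizer (J : Set X)) (hxp : x ^ p ∈ centralizer (J : Set X))
    (hne : ∃ r ∈ sSup (orbit' J x) ⊓ centralizer ({x} : Set X),
      r ∉ centralizer ((sSup (orbit' J x) : Subgroup X) : Set X)) :
    ∃ Δ : Subgroup X, Δ ≤ centralizer ({x} : Set X) ∧
      IsComponent (Δ.subgroupOf (centralizer ({x} : Set X))) ∧ Nonempty (↥Δ ≃* ↥J) ∧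
      Δ ≤ sSup (orbit' J x) := by
  obtain ⟨δ, hδ, hdec⟩ := exists_delta (p := p) hJ hxJ hxp
  set O := sSup (orbit' J x) with hO
  set Y := centralizer ({x} : Set X) with hY
  have hoc : ∀ L ∈ orbit' J x, IsComponent L := fun L ⟨i, hi⟩ => hi ▸ comp_conj hJ _
  have hΔY : δ.range ≤ Y := by rintro _ ⟨j, rfl⟩; exact (mem_inf.1 (hδ j)).2
  have hΔO : δ.range ≤ O := by rintro _ ⟨j, rfl⟩; exact (mem_inf.1 (hδ j)).1
  have hinj : Function.Injective δ := by
    rw [← MonoidHom.ker_eq_bot_iff]
    rcases qs_subnormal_eq_top_or_le_center hJ.2 (MonoidHom.normal_ker δ).isSubnormal with h | h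
    · exfalso
      obtain ⟨r, hr, hrc⟩ := hne
      obtain ⟨j, hj⟩ := hdec r hr
      have : δ j = 1 := MonoidHom.mem_ker.1 (h ▸ mem_top j)
      rw [this, inv_one, one_mul] at hj
      exact hrc hj
    · exact le_bot_iff.1 (h.trans hZ.le)
  refine ⟨δ.range, hΔY, ⟨?_, ?_⟩, ⟨(MonoidHom.ofInjective hinj).symm⟩, hΔO⟩
  · have hsn : ((O ⊓ Y).subgroupOf Y).IsSubnormal := by
      rw [inf_subgroupOf_right]; exact (sSup_isSubnormal hoc).subgroupOf
    refine isSubnormal_of_normal_in hsn (fun a ha => mem_inf.2 ⟨hΔO ha, hΔY ha⟩) ?_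
    intro c hc
    rw [mem_normalizer_iff_map_conj_eq]
    refine Subgroup.eq_of_le_of_card_ge ?_ (Nat.card_congr
      ((δ.range.subgroupOf Y).equivMapOfInjective _ (MulAut.conj c).injective).toEquiv).le
    rintro _ ⟨a, ha, rfl⟩
    replace ha : (a : X) ∈ δ.range := ha
    show ((MulAut.conj c).toMonoidHom a : X) ∈ δ.range
    obtain ⟨j, hj⟩ := hdec (c : X) (mem_inf.2 ⟨(mem_inf.1 hc).1, c.2⟩)
    obtain ⟨i, hi⟩ := ha
    refine ⟨j * i * j⁻¹, ?_⟩
    show δ (j * i * j⁻¹) = (c : X) * (a : X) * (c : X)⁻¹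
    rw [map_mul, map_mul, map_inv, ← hi]
    have hcm : Commute (δ i) ((δ j)⁻¹ * c) := mem_centralizer_iff.1 hj _ (mem_inf.1 (hδ i)).1
    have e : (c : X) = δ j * ((δ j)⁻¹ * c) := by group
    generalize (δ j)⁻¹ * c = z at hcm e
    rw [e, mul_inv_rev, mul_assoc (δ j) z, ← hcm.eq]
    group
  · exact qs_congr' ((MonoidHom.ofInjective hinj).trans (subgroupOfEquivOfLe hΔY).symm) hJ.2

/-- four divides the index of the centre of a quasisimple group whose order is even -/
theorem four_dvd_index {A : Type u} [Group A] [Finite A] (hA : IsQuasisimple A)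
    (h : 2 ∣ (center A).index) : 4 ∣ (center A).index := by
  haveI : Fact (Nat.Prime 2) := ⟨Nat.prime_two⟩
  by_contra h4
  obtain ⟨hperf, hsimp⟩ := hA
  have hcard : Nat.card (A ⧸ center A) = (center A).index := (index_eq_card _).symm
  obtain ⟨P⟩ : Nonempty (Sylow 2 (A ⧸ center A)) := inferInstance
  obtain ⟨e, he⟩ := P.2.exists_card_eq
  have hPd : Nat.card P ∣ (center A).index := hcard ▸ card_subgroup_dvd_card _
  have hP2 : 2 ∣ Nat.card P := P.dvd_card_of_dvd_card (hcard ▸ h)
  have he1 : e = 1 := by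
    rcases e with _ | _ | e
    · rw [he] at hP2; simp at hP2
    · rfl
    · exact absurd ((Dvd.intro (2 ^ e) (by rw [pow_succ, pow_succ]; ring)).trans (he ▸ hPd)) h4
  haveI : IsCyclic P := isCyclic_of_prime_card (p := 2) (by rw [he, he1, pow_one])
  have hmin : (Nat.card (A ⧸ center A)).minFac = 2 := (Nat.minFac_eq_two_iff _).2 (hcard ▸ h)
  have hcompl := IsCyclic.isComplement' hmin (P := P) inferInstance
  haveI := hsimp
  rcases IsSimpleGroup.eq_bot_or_eq_top_of_normal _ (MonoidHom.normal_ker (MonoidHom.transferSylow P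
    (IsCyclic.normalizer_le_centralizer hmin inferInstance))) with hb | ht
  · rw [hb] at hcompl
    have htop : (P : Subgroup (A ⧸ center A)) = ⊤ := isComplement'_bot_left.1 hcompl
    have hc : IsMulCommutative (A ⧸ center A) := by
      refine ⟨⟨fun a b => ?_⟩⟩
      haveI : IsMulCommutative (P : Subgroup (A ⧸ center A)) := inferInstance
      exact congrArg Subtype.val (mul_comm' (⟨a, htop ▸ mem_top a⟩ : (P : Subgroup (A ⧸ center A)))
        ⟨b, htop ▸ mem_top b⟩)
    exact qs_not_isMulCommutative (qs_of_surjective (G := A) ⟨hperf, hsimp⟩ (QuotientGroup.mk' (center A))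
      (QuotientGroup.mk'_surjective _)) hc
  · rw [ht] at hcompl
    have := isComplement'_top_left.1 hcompl
    rw [this] at he
    simp [he1] at he

end Cfsg.Lib.Components.PTerminal
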